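import Mathlib

namespace Groth.Agent.H8.NBC

open Polynomial

/-- If `t` generates the kernel of a map onto a reduced ring, then `R'` is integrally closed in
any extension in which `t` becomes a non-zero-divisor, as far as elements with `t`-power
denominators are concerned. -/
theorem mem_range_of_isIntegralElem_of_pow_mul_mem {R' S Rbar : Type*} [CommRing R'] [CommRing S]
    [CommRing Rbar] [IsReduced Rbar] (f : R' →+* S) (hf : Function.Injective f)
    (π : R' →+* Rbar) (t : R') (hπt : π t = 0) (hker : ∀ y, π y = 0 → ∃ y', y = t * y')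
    (ht : f t ∈ nonZeroDivisors S) (x : S) (hx : f.IsIntegralElem x) :
    ∀ n : ℕ, (∃ y, f t ^ n * x = f y) → x ∈ Set.range f := by
  intro n
  induction n with
  | zero =>
    rintro ⟨y, hy⟩
    exact ⟨y, by rw [← hy, pow_zero, one_mul]⟩
  | succ n ih =>
    rintro ⟨y, hy⟩
    apply ih
    obtain ⟨p, hpm, hp⟩ := hx
    have hdvd : t ^ (n + 1) ∣ y ^ p.natDegree :=
      dvd_pow_natDegree_of_eval₂_eq_zero hf hpm (t ^ (n + 1)) y x hp (by rw [map_pow]; exact hy)
    have hnil : π y ^ p.natDegree = 0 := by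
      obtain ⟨w, hw⟩ := hdvd
      rw [← map_pow, hw, pow_succ, mul_assoc, mul_comm, map_mul, map_mul, hπt]
      ring
    have hy0 : π y = 0 := IsReduced.eq_zero _ ⟨_, hnil⟩
    obtain ⟨y', rfl⟩ := hker y hy0
    refine ⟨y', ?_⟩
    rw [pow_succ, map_mul, mul_comm (f t ^ n) (f t), mul_assoc] at hy
    exact (mul_cancel_left_mem_nonZeroDivisors ht).mp hy

end Groth.Agent.H8.NBC
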