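import Mathlib
import Groth.Agent.Lib.Helper8.NormalHomReduced

namespace Groth.Agent.H8.NBC

open TensorProduct

/-- Flat base change commutes with finite intersections of submodules. -/
theorem mem_range_lTensor_of_forall {A : Type*} [CommRing A] (M : Type*) [AddCommGroup M]
    [Module A M] [Module.Flat A M] {ι : Type*} [Finite ι] (L : Type*) [AddCommGroup L] [Module A L]
    (N : Submodule A L) (Nj : ι → Submodule A L) (hle : ∀ j, N ≤ Nj j)
    (hinter : ∀ l, (∀ j, l ∈ Nj j) → l ∈ N) (x : M ⊗[A] L)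
    (hx : ∀ j, x ∈ LinearMap.range (LinearMap.lTensor M (Nj j).subtype)) :
    x ∈ LinearMap.range (LinearMap.lTensor M N.subtype) := by
  have hex : Function.Exact (LinearMap.lTensor M N.subtype) (LinearMap.lTensor M N.mkQ) :=
    lTensor_exact M (LinearMap.exact_subtype_mkQ N) (Submodule.mkQ_surjective N)
  refine (hex x).mp ?_
  let f : ∀ j, (L ⧸ N) →ₗ[A] (L ⧸ Nj j) := fun j => Submodule.mapQ N (Nj j) LinearMap.id (hle j)
  refine Groth.Agent.H8.NHR.eq_zero_of_forall_lTensor_eq_zero M (L ⧸ N) (fun j => L ⧸ Nj j) f ?_ _ ?_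
  · intro b hb
    obtain ⟨l, rfl⟩ := Submodule.Quotient.mk_surjective N b
    rw [Submodule.Quotient.mk_eq_zero]
    apply hinter
    intro j
    have := hb j
    simpa [f, Submodule.mapQ_apply, Submodule.Quotient.mk_eq_zero] using this
  · intro j
    obtain ⟨w, rfl⟩ := hx j
    rw [← LinearMap.comp_apply, ← LinearMap.comp_apply, ← LinearMap.lTensor_comp,
      ← LinearMap.lTensor_comp]
    have : (f j ∘ₗ N.mkQ) ∘ₗ (Nj j).subtype = 0 := by
      ext l
      simp [f, Submodule.mapQ_apply]
    rw [this, LinearMap.lTensor_zero, LinearMap.zero_apply]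

end Groth.Agent.H8.NBC
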