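import Mathlib
import Groth.Agent.Lib.Helper8.NBC.NBC1
import Groth.Agent.Lib.Helper8.NBC.NBC2

namespace Groth.Agent.H8.NBC

open TensorProduct

universe u

section bc

variable (A A' : Type u) [CommRing A] [CommRing A'] [Algebra A A']

/-- The base change map `A' ⊗ W → A' ⊗ L`. -/
noncomputable abbrev bc (W L : Type u) [CommRing W] [CommRing L] [Algebra A W] [Algebra A L]
    [Algebra W L] [IsScalarTower A W L] : A' ⊗[A] W →ₐ[A'] A' ⊗[A] L :=
  Algebra.TensorProduct.map (AlgHom.id A' A') (IsScalarTower.toAlgHom A W L)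

theorem bc_eq_lTensor (W L : Type u) [CommRing W] [CommRing L] [Algebra A W] [Algebra A L]
    [Algebra W L] [IsScalarTower A W L] (y : A' ⊗[A] W) :
    bc A A' W L y = LinearMap.lTensor A' (IsScalarTower.toAlgHom A W L).toLinearMap y := by
  induction y using TensorProduct.induction_on with
  | zero => simp
  | tmul a w => simp
  | add y z hy hz => rw [map_add, map_add, hy, hz]

theorem bc_injective [Module.Flat A A'] (W L : Type u) [CommRing W] [CommRing L] [Algebra A W]
    [Algebra A L] [Algebra W L] [IsScalarTower A W L] (hinj : Function.Injective (algebraMap W L)) :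
    Function.Injective (bc A A' W L) := by
  have h := Module.Flat.lTensor_preserves_injective_linearMap (M := A')
    (IsScalarTower.toAlgHom A W L).toLinearMap hinj
  intro y z hyz
  apply h
  rw [← bc_eq_lTensor, ← bc_eq_lTensor, hyz]

end bc

section dvr

variable (A A' : Type u) [CommRing A] [CommRing A'] [Algebra A A'] [Module.Flat A A']

/-- every element of the fraction field of a DVR becomes integral after multiplying with a power
of the uniformizer -/
theorem exists_pow_mul_eq_algebraMap (V L : Type u) [CommRing V] [IsDomain V]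
    [IsDiscreteValuationRing V] [Field L] [Algebra V L] [IsFractionRing V L] (ϖ : V)
    (hϖ : Irreducible ϖ) (l : L) : ∃ (n : ℕ) (v : V), algebraMap V L ϖ ^ n * l = algebraMap V L v := by
  obtain ⟨a, b, hb, rfl⟩ := IsFractionRing.div_surjective (A := V) l
  have hb0 : b ≠ 0 := nonZeroDivisors.ne_zero hb
  obtain ⟨n, u, hu⟩ := IsDiscreteValuationRing.eq_unit_mul_pow_irreducible hb0 hϖ
  refine ⟨n, a * ↑u⁻¹, ?_⟩
  have hbL : algebraMap V L b ≠ 0 := (map_ne_zero_iff _ (IsFractionRing.injective V L)).mpr hb0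
  have hbu : algebraMap V L b = algebraMap V L ↑u * algebraMap V L ϖ ^ n := by
    rw [hu, map_mul, map_pow]
  have hu1 : algebraMap V L ↑u * algebraMap V L ↑u⁻¹ = 1 := by
    rw [← map_mul, Units.mul_inv, map_one]
  have hu0 : algebraMap V L ↑u ≠ 0 := left_ne_zero_of_mul_eq_one hu1
  have hϖ0 : algebraMap V L ϖ ^ n ≠ 0 := by
    intro h0
    apply hbL
    rw [hbu, h0, mul_zero]
  have huinv : algebraMap V L ↑u⁻¹ = (algebraMap V L ↑u)⁻¹ := eq_inv_of_mul_eq_one_right hu1
  rw [map_mul, huinv, hbu]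
  field_simp

set_option maxHeartbeats 800000 in
/-- **DVR step**: `A' ⊗ V` is integrally closed in `A' ⊗ Frac V` for a discrete valuation ring `V`
over `A`, when `A' ⊗ κ` is reduced for the residue field `κ` of `V`. -/
theorem mem_range_bc_of_isIntegralElem_dvr
    (hred : ∀ (κ : Type u) [Field κ] [Algebra A κ], IsReduced (A' ⊗[A] κ))
    (V L : Type u) [CommRing V] [IsDomain V] [IsDiscreteValuationRing V] [Field L] [Algebra V L]
    [IsFractionRing V L] [Algebra A V] [Algebra A L] [IsScalarTower A V L]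
    (x : A' ⊗[A] L) (hx : (bc A A' V L).toRingHom.IsIntegralElem x) :
    x ∈ Set.range (bc A A' V L) := by
  obtain ⟨ϖ, hϖ⟩ := IsDiscreteValuationRing.exists_irreducible V
  let κ := IsLocalRing.ResidueField V
  haveI : IsReduced (A' ⊗[A] κ) := hred κ
  let π : A' ⊗[A] V →ₐ[A'] A' ⊗[A] κ := bc A A' V κ
  let t : A' ⊗[A] V := (1 : A') ⊗ₜ[A] ϖ
  have hϖL : algebraMap V L ϖ ≠ 0 :=
    (map_ne_zero_iff _ (IsFractionRing.injective V L)).mpr hϖ.ne_zero
  have hft : bc A A' V L t = (1 : A') ⊗ₜ[A] algebraMap V L ϖ := by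
    simp [t]
  have hunit : IsUnit (bc A A' V L t) := by
    rw [hft]
    refine IsUnit.of_mul_eq_one ((1 : A') ⊗ₜ[A] (algebraMap V L ϖ)⁻¹) ?_
    rw [Algebra.TensorProduct.tmul_mul_tmul, mul_one, mul_inv_cancel₀ hϖL]
    rfl
  -- the kernel of `π`
  have hπt : π t = 0 := by
    have : algebraMap V κ ϖ = 0 := by
      rw [IsLocalRing.ResidueField.algebraMap_eq, IsLocalRing.residue_eq_zero_iff]
      exact hϖ.not_isUnit
    simp [π, t, this]
  let g₁ : V →ₗ[A] V := (LinearMap.lsmul V V ϖ).restrictScalars A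
  let g₂ : V →ₗ[A] κ := (IsScalarTower.toAlgHom A V κ).toLinearMap
  have hexact : Function.Exact g₁ g₂ := by
    intro v
    constructor
    · intro hv
      have hv' : IsLocalRing.residue V v = 0 := hv
      rw [IsLocalRing.residue_eq_zero_iff, hϖ.maximalIdeal_eq,
        Ideal.mem_span_singleton'] at hv'
      obtain ⟨w, rfl⟩ := hv'
      exact ⟨w, by simp [g₁, mul_comm]⟩
    · rintro ⟨w, rfl⟩
      show IsLocalRing.residue V (ϖ • w) = 0
      rw [smul_eq_mul, map_mul, (IsLocalRing.residue_eq_zero_iff ϖ).mpr hϖ.not_isUnit, zero_mul]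
  have hsurj : Function.Surjective g₂ := IsLocalRing.residue_surjective
  have hex' := lTensor_exact A' hexact hsurj
  have hkey : ∀ y' : A' ⊗[A] V, LinearMap.lTensor A' g₁ y' = t * y' := by
    intro y'
    induction y' using TensorProduct.induction_on with
    | zero => simp
    | tmul a v => simp [g₁, t, Algebra.TensorProduct.tmul_mul_tmul]
    | add y z hy hz => rw [map_add, mul_add, hy, hz]
  have hker : ∀ y, π y = 0 → ∃ y', y = t * y' := by
    intro y hy
    have hy' : LinearMap.lTensor A' g₂ y = 0 := by rw [← bc_eq_lTensor]; exact hy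
    obtain ⟨y', rfl⟩ := (hex' y).mp hy'
    exact ⟨y', hkey y'⟩
  have hinj : Function.Injective (bc A A' V L) :=
    bc_injective A A' V L (IsFractionRing.injective V L)
  have hden : ∀ x : A' ⊗[A] L, ∃ (n : ℕ) (y : A' ⊗[A] V),
      bc A A' V L t ^ n * x = bc A A' V L y := by
    intro x
    rw [hft]
    induction x using TensorProduct.induction_on with
    | zero => exact ⟨0, 0, by simp⟩
    | tmul a l =>
      obtain ⟨n, v, hv⟩ := exists_pow_mul_eq_algebraMap V L ϖ hϖ l
      refine ⟨n, a ⊗ₜ v, ?_⟩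
      rw [Algebra.TensorProduct.tmul_pow, one_pow, Algebra.TensorProduct.tmul_mul_tmul, one_mul, hv]
      simp
    | add y z hy hz =>
      obtain ⟨n, y', hy'⟩ := hy
      obtain ⟨m, z', hz'⟩ := hz
      refine ⟨n + m, (t ^ m) * y' + (t ^ n) * z', ?_⟩
      rw [mul_add, pow_add, map_add, map_mul, map_mul, ← hy', ← hz', map_pow, map_pow, hft]
      ring
  obtain ⟨n, y, hy⟩ := hden x
  exact mem_range_of_isIntegralElem_of_pow_mul_mem (bc A A' V L).toRingHom hinj π.toRingHom t hπt
    hker hunit.mem_nonZeroDivisors x hx n ⟨y, hy⟩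

end dvr

end Groth.Agent.H8.NBC
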