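import Mathlib
import Groth.Agent.Lib.Helper8.NBC.NBC3
import Groth.Agent.Lib.Helper8.J2.N3
import Groth.Agent.Lib.Helper8.Japanese.AUK1
import Groth.Agent.Lib.Helper8.Japanese.AUK3

namespace Groth.Agent.H8.NBC

open TensorProduct

universe u

section krull

variable (C : Type u) [CommRing C] [IsDomain C] [IsNoetherianRing C]
  (L : Type u) [Field L] [Algebra C L] [IsFractionRing C L]

/-- The denominator ideal of `l ∈ L`. -/
noncomputable def denomL (l : L) : Ideal C :=
  (LinearMap.range (Algebra.linearMap C L)).colon {l}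

theorem mem_denomL (l : L) (r : C) :
    r ∈ denomL C L l ↔ ∃ a : C, algebraMap C L r * l = algebraMap C L a := by
  rw [denomL, Submodule.mem_colon_singleton, LinearMap.mem_range, Algebra.smul_def]
  constructor
  · rintro ⟨a, ha⟩; exact ⟨a, ha.symm⟩
  · rintro ⟨a, ha⟩; exact ⟨a, ha.symm⟩

/-- Krull-type intersection property: an element with a power of `c` as denominator which lies in
`C_𝔮` for all `𝔮 ∈ Ass(C/cC)` lies in `C`. -/
theorem mem_range_of_forall_ass (c : C) (hc : c ≠ 0) (l : L)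
    (h1 : ∃ (n : ℕ) (a : C), algebraMap C L c ^ n * l = algebraMap C L a)
    (h2 : ∀ (𝔮 : Ideal C), 𝔮 ∈ associatedPrimes C (C ⧸ Ideal.span {c}) →
      ∃ s : C, s ∉ 𝔮 ∧ ∃ a : C, algebraMap C L s * l = algebraMap C L a) :
    ∃ a : C, l = algebraMap C L a := by
  by_contra hcon
  have hI : denomL C L l ≠ ⊤ := by
    intro htop
    have : (1 : C) ∈ denomL C L l := htop ▸ Submodule.mem_top
    obtain ⟨a, ha⟩ := (mem_denomL C L l 1).mp this
    exact hcon ⟨a, by rw [← ha, map_one, one_mul]⟩
  obtain ⟨m, hm, hIm⟩ := Ideal.exists_le_maximal _ hI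
  haveI := hm.isPrime
  obtain ⟨𝔮, hqmin, -⟩ := Ideal.exists_minimalPrimes_le hIm
  have hIq : denomL C L l ≤ 𝔮 := hqmin.1.2
  have hqass : 𝔮 ∈ associatedPrimes C (C ⧸ denomL C L l) :=
    Module.associatedPrimes.minimalPrimes_annihilator_subset_associatedPrimes C
      (C ⧸ denomL C L l) (by rwa [Ideal.annihilator_quotient])
  rw [AssociatedPrimes.mem_iff, isAssociatedPrime_iff] at hqass
  obtain ⟨hqprime, mb, hqm⟩ := hqass
  obtain ⟨b, rfl⟩ := Ideal.Quotient.mk_surjective mb
  obtain ⟨n, a, hna⟩ := h1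
  have hinj := IsFractionRing.injective C L
  have hcn0 : algebraMap C L c ^ n ≠ 0 :=
    pow_ne_zero n ((map_ne_zero_iff _ hinj).mpr hc)
  have hqass' : 𝔮 ∈ associatedPrimes C (C ⧸ Ideal.span {c ^ n}) := by
    rw [AssociatedPrimes.mem_iff, isAssociatedPrime_iff]
    refine ⟨hqprime, Ideal.Quotient.mk _ (b * a), ?_⟩
    ext r
    rw [hqm, Submodule.mem_colon_singleton, Submodule.mem_bot, Submodule.mem_colon_singleton,
      Submodule.mem_bot]
    have e1 : r • (Ideal.Quotient.mk (denomL C L l)) b =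
        Ideal.Quotient.mk (denomL C L l) (r * b) := rfl
    have e2 : r • (Ideal.Quotient.mk (Ideal.span {c ^ n})) (b * a) =
        Ideal.Quotient.mk (Ideal.span {c ^ n}) (r * (b * a)) := rfl
    rw [e1, e2, Ideal.Quotient.eq_zero_iff_mem, Ideal.Quotient.eq_zero_iff_mem, mem_denomL,
      Ideal.mem_span_singleton']
    constructor
    · rintro ⟨a', ha'⟩
      refine ⟨a', hinj ?_⟩
      rw [map_mul, map_mul, map_mul, map_pow, ← hna, ← ha', map_mul]
      ring
    · rintro ⟨a', ha'⟩
      refine ⟨a', mul_left_cancel₀ hcn0 ?_⟩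
      have := congrArg (algebraMap C L) ha'
      rw [map_mul, map_mul, map_mul, map_pow, ← hna] at this
      rw [map_mul]
      linear_combination this.symm
  have hqass'' := Groth.Agent.H8.J2.associatedPrimes_pow_subset C c hc n hqass'
  obtain ⟨s, hs, a', ha'⟩ := h2 𝔮 hqass''
  exact hs (hIq ((mem_denomL C L l s).mpr ⟨a', ha'⟩))

end krull

end Groth.Agent.H8.NBC

namespace Groth.Agent.H8.NBC

open TensorProduct

universe u

section dvrloc

variable (C : Type u) [CommRing C] [IsDomain C] [IsNoetherianRing C] [IsIntegrallyClosed C]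

/-- For a Noetherian normal domain, the localization at an associated prime of a nonzero principal
ideal is a discrete valuation ring. -/
theorem isDiscreteValuationRing_of_mem_associatedPrimes (c : C) (hc : c ≠ 0) (𝔮 : Ideal C)
    [𝔮.IsPrime] (h𝔮 : 𝔮 ∈ associatedPrimes C (C ⧸ Ideal.span {c})) :
    IsDiscreteValuationRing (Localization.AtPrime 𝔮) := by
  obtain ⟨π, hπq, hπ⟩ :=
    Groth.Agent.H8.Jap.AUK.exists_principal_of_mem_associatedPrimes C c hc 𝔮 h𝔮
  have hcq : c ∈ 𝔮 := Groth.Agent.H8.Jap.AUK.mem_of_mem_associatedPrimes_quot_span c 𝔮 h𝔮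
  haveI : IsNoetherianRing (Localization.AtPrime 𝔮) :=
    IsLocalization.isNoetherianRing 𝔮.primeCompl _ inferInstance
  have hnf : ¬ IsField (Localization.AtPrime 𝔮) := by
    rw [IsLocalRing.isField_iff_maximalIdeal_eq]
    intro h0
    have h1 : algebraMap C (Localization.AtPrime 𝔮) c ∈
        IsLocalRing.maximalIdeal (Localization.AtPrime 𝔮) := by
      rw [← Localization.AtPrime.map_eq_maximalIdeal]
      exact Ideal.mem_map_of_mem _ hcq
    rw [h0, Ideal.mem_bot] at h1
    have hinj : Function.Injective (algebraMap C (Localization.AtPrime 𝔮)) :=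
      IsLocalization.injective _ 𝔮.primeCompl_le_nonZeroDivisors
    exact hc (hinj (h1.trans (map_zero _).symm))
  refine ((IsDiscreteValuationRing.TFAE (Localization.AtPrime 𝔮) hnf).out 0 4).mpr ?_
  refine ⟨⟨algebraMap C (Localization.AtPrime 𝔮) π, ?_⟩⟩
  apply le_antisymm
  · rw [← Localization.AtPrime.map_eq_maximalIdeal, Ideal.map_le_iff_le_comap]
    intro a ha
    obtain ⟨t, ht, hta⟩ := hπ a ha
    obtain ⟨r, hr⟩ := Ideal.mem_span_singleton'.mp hta
    rw [Ideal.mem_comap, Ideal.submodule_span_eq, Ideal.mem_span_singleton']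
    have hunit : IsUnit (algebraMap C (Localization.AtPrime 𝔮) t) :=
      IsLocalization.map_units (Localization.AtPrime 𝔮) (⟨t, ht⟩ : 𝔮.primeCompl)
    refine ⟨algebraMap C _ r * ↑hunit.unit⁻¹, ?_⟩
    have h3 : algebraMap C (Localization.AtPrime 𝔮) t * algebraMap C _ a =
        algebraMap C _ r * algebraMap C _ π := by rw [← map_mul, ← map_mul, hr]
    calc algebraMap C (Localization.AtPrime 𝔮) r * ↑hunit.unit⁻¹ * algebraMap C _ π
        = ↑hunit.unit⁻¹ * (algebraMap C _ r * algebraMap C _ π) := by ring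
      _ = ↑hunit.unit⁻¹ * (algebraMap C (Localization.AtPrime 𝔮) t * algebraMap C _ a) := by rw [h3]
      _ = (↑hunit.unit⁻¹ * ↑hunit.unit) * algebraMap C _ a := by rw [IsUnit.unit_spec]; ring
      _ = algebraMap C _ a := by rw [Units.inv_mul, one_mul]
  · rw [Ideal.submodule_span_eq, Ideal.span_singleton_le_iff_mem,
      ← Localization.AtPrime.map_eq_maximalIdeal]
    exact Ideal.mem_map_of_mem _ hπq

end dvrloc

end Groth.Agent.H8.NBC
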