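import Mathlib
import Groth.Agent.Lib.Helper8.NBC.NBC4

namespace Groth.Agent.H8.NBC

open TensorProduct

universe u

section locSub

variable (A : Type u) [CommRing A] (C : Type u) [CommRing C] [Algebra A C]
  (L : Type u) [CommRing L] [Algebra C L] [Algebra A L] [IsScalarTower A C L]

/-- The `A`-submodule of `L` of elements with denominators in `M`. -/
def locSub (M : Submonoid C) : Submodule A L where
  carrier := {l | ∃ s ∈ M, ∃ a : C, algebraMap C L s * l = algebraMap C L a}
  zero_mem' := ⟨1, M.one_mem, 0, by simp⟩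
  add_mem' := by
    rintro l₁ l₂ ⟨s₁, hs₁, a₁, h₁⟩ ⟨s₂, hs₂, a₂, h₂⟩
    refine ⟨s₁ * s₂, M.mul_mem hs₁ hs₂, s₂ * a₁ + s₁ * a₂, ?_⟩
    rw [map_mul, map_add, map_mul, map_mul, ← h₁, ← h₂]
    ring
  smul_mem' := by
    rintro r l ⟨s, hs, a, h⟩
    refine ⟨s, hs, r • a, ?_⟩
    rw [Algebra.smul_def, Algebra.smul_def, map_mul, ← h,
      ← IsScalarTower.algebraMap_apply A C L]
    ring

theorem mem_locSub (M : Submonoid C) (l : L) :
    l ∈ locSub A C L M ↔ ∃ s ∈ M, ∃ a : C, algebraMap C L s * l = algebraMap C L a := Iff.rfl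

theorem range_le_locSub (M : Submonoid C) :
    LinearMap.range (IsScalarTower.toAlgHom A C L).toLinearMap ≤ locSub A C L M := by
  rintro _ ⟨a, rfl⟩
  exact ⟨1, M.one_mem, a, by simp⟩

end locSub

/-- If `g` has range in `N`, `lTensor g` has range in the range of `lTensor N.subtype`. -/
theorem range_lTensor_le {A : Type*} [CommRing A] (M : Type*) [AddCommGroup M] [Module A M]
    {W L : Type*} [AddCommGroup W] [Module A W] [AddCommGroup L] [Module A L]
    (N : Submodule A L) (g : W →ₗ[A] L) (hg : ∀ w, g w ∈ N) :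
    LinearMap.range (LinearMap.lTensor M g) ≤ LinearMap.range (LinearMap.lTensor M N.subtype) := by
  have : g = N.subtype ∘ₗ (g.codRestrict N hg) := by
    ext w; rfl
  rw [this, LinearMap.lTensor_comp]
  exact LinearMap.range_comp_le_range _ _

end Groth.Agent.H8.NBC

namespace Groth.Agent.H8.NBC

open TensorProduct

universe u

section thmX

variable (A A' : Type u) [CommRing A] [CommRing A'] [Algebra A A'] [Module.Flat A A']
  (C L : Type u) [CommRing C] [IsDomain C] [Field L] [Algebra C L] [IsFractionRing C L]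
  [Algebra A C] [Algebra A L] [IsScalarTower A C L]

/-- common denominators for elements of `A' ⊗ L` -/
theorem exists_mul_eq_bc (x : A' ⊗[A] L) :
    ∃ (c : C) (_ : c ≠ 0) (z : A' ⊗[A] C), ((1 : A') ⊗ₜ[A] algebraMap C L c) * x = bc A A' C L z := by
  induction x using TensorProduct.induction_on with
  | zero => exact ⟨1, one_ne_zero, 0, by simp⟩
  | tmul a l =>
    obtain ⟨p, q, hq, rfl⟩ := IsFractionRing.div_surjective (A := C) l
    have hq0 : algebraMap C L q ≠ 0 :=
      (map_ne_zero_iff _ (IsFractionRing.injective C L)).mpr (nonZeroDivisors.ne_zero hq)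
    refine ⟨q, nonZeroDivisors.ne_zero hq, a ⊗ₜ p, ?_⟩
    rw [Algebra.TensorProduct.tmul_mul_tmul, one_mul, mul_div_cancel₀ _ hq0]
    simp
  | add y z hy hz =>
    obtain ⟨c₁, hc₁, z₁, h₁⟩ := hy
    obtain ⟨c₂, hc₂, z₂, h₂⟩ := hz
    refine ⟨c₁ * c₂, mul_ne_zero hc₁ hc₂,
      ((1 : A') ⊗ₜ[A] c₂) * z₁ + ((1 : A') ⊗ₜ[A] c₁) * z₂, ?_⟩
    have e : ∀ c : C, bc A A' C L ((1 : A') ⊗ₜ[A] c) = (1 : A') ⊗ₜ[A] algebraMap C L c := by
      intro c; simp
    have e' : (1 : A') ⊗ₜ[A] (algebraMap C L (c₁ * c₂)) =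
        ((1 : A') ⊗ₜ[A] algebraMap C L c₁) * ((1 : A') ⊗ₜ[A] algebraMap C L c₂) := by
      rw [Algebra.TensorProduct.tmul_mul_tmul, one_mul, map_mul]
    rw [e', map_add, map_mul (bc A A' C L), map_mul (bc A A' C L), ← h₁, ← h₂, e, e]
    ring

/-- the element `x` has denominators `c^n` -/
theorem mem_range_lTensor_locSub_powers (c : C) (hc : c ≠ 0) (x : A' ⊗[A] L) (z : A' ⊗[A] C)
    (hz : ((1 : A') ⊗ₜ[A] algebraMap C L c) * x = bc A A' C L z) :
    x ∈ LinearMap.range (LinearMap.lTensor A' (locSub A C L (Submonoid.powers c)).subtype) := by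
  have hc0 : algebraMap C L c ≠ 0 := (map_ne_zero_iff _ (IsFractionRing.injective C L)).mpr hc
  let ν : C →ₗ[A] L := (LinearMap.mulLeft A (algebraMap C L c)⁻¹) ∘ₗ
    (IsScalarTower.toAlgHom A C L).toLinearMap
  have hν : ∀ w, ν w ∈ locSub A C L (Submonoid.powers c) := by
    intro w
    refine ⟨c, Submonoid.mem_powers c, w, ?_⟩
    simp only [ν, LinearMap.comp_apply, LinearMap.mulLeft_apply, AlgHom.toLinearMap_apply,
      IsScalarTower.coe_toAlgHom']
    rw [← mul_assoc, mul_inv_cancel₀ hc0, one_mul]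
  apply range_lTensor_le A' _ ν hν
  refine ⟨z, ?_⟩
  have key : ∀ z : A' ⊗[A] C, LinearMap.lTensor A' ν z =
      ((1 : A') ⊗ₜ[A] (algebraMap C L c)⁻¹) * bc A A' C L z := by
    intro z
    induction z using TensorProduct.induction_on with
    | zero => simp
    | tmul a w => simp [ν, Algebra.TensorProduct.tmul_mul_tmul]
    | add y z hy hz => rw [map_add, map_add, mul_add, hy, hz]
  rw [key, ← hz, ← mul_assoc, Algebra.TensorProduct.tmul_mul_tmul, one_mul, inv_mul_cancel₀ hc0]
  exact one_mul x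

set_option maxHeartbeats 800000 in
/-- the element `x` lies in `A' ⊗ C_𝔮` for associated primes `𝔮` of `C/cC` -/
theorem mem_range_lTensor_locSub_primeCompl [IsNoetherianRing C] [IsIntegrallyClosed C]
    (hred : ∀ (κ : Type u) [Field κ] [Algebra A κ], IsReduced (A' ⊗[A] κ))
    (c : C) (hc : c ≠ 0) (𝔮 : Ideal C) [𝔮.IsPrime]
    (h𝔮 : 𝔮 ∈ associatedPrimes C (C ⧸ Ideal.span {c})) (x : A' ⊗[A] L)
    (hx : (bc A A' C L).toRingHom.IsIntegralElem x) :
    x ∈ LinearMap.range (LinearMap.lTensor A' (locSub A C L 𝔮.primeCompl).subtype) := by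
  haveI : IsDiscreteValuationRing (Localization.AtPrime 𝔮) :=
    isDiscreteValuationRing_of_mem_associatedPrimes C c hc 𝔮 h𝔮
  letI : Algebra (Localization.AtPrime 𝔮) L :=
    IsLocalization.localizationAlgebraOfSubmonoidLe (Localization.AtPrime 𝔮) L 𝔮.primeCompl
      (nonZeroDivisors C) 𝔮.primeCompl_le_nonZeroDivisors
  haveI : IsScalarTower C (Localization.AtPrime 𝔮) L :=
    IsLocalization.localization_isScalarTower_of_submonoid_le (Localization.AtPrime 𝔮) L
      𝔮.primeCompl (nonZeroDivisors C) 𝔮.primeCompl_le_nonZeroDivisors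
  haveI : IsFractionRing (Localization.AtPrime 𝔮) L :=
    IsFractionRing.isFractionRing_of_isDomain_of_isLocalization 𝔮.primeCompl
      (Localization.AtPrime 𝔮) L
  haveI : IsScalarTower A (Localization.AtPrime 𝔮) L := IsScalarTower.of_algebraMap_eq (fun a => by
    rw [IsScalarTower.algebraMap_apply A C (Localization.AtPrime 𝔮),
      ← IsScalarTower.algebraMap_apply C (Localization.AtPrime 𝔮) L,
      ← IsScalarTower.algebraMap_apply A C L])
  have hcomp : (bc A A' (Localization.AtPrime 𝔮) L).toRingHom.comp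
      (bc A A' C (Localization.AtPrime 𝔮)).toRingHom = (bc A A' C L).toRingHom := by
    ext z
    · simp
    · simp [← IsScalarTower.algebraMap_apply]
  have hx' : (bc A A' (Localization.AtPrime 𝔮) L).toRingHom.IsIntegralElem x := by
    obtain ⟨p, hpm, hp⟩ := hx
    refine ⟨p.map (bc A A' C (Localization.AtPrime 𝔮)).toRingHom, hpm.map _, ?_⟩
    rw [Polynomial.eval₂_map, hcomp]
    exact hp
  obtain ⟨w, hw⟩ := mem_range_bc_of_isIntegralElem_dvr A A' hred (Localization.AtPrime 𝔮) L x hx'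
  apply range_lTensor_le A' _ (IsScalarTower.toAlgHom A (Localization.AtPrime 𝔮) L).toLinearMap
    (fun v => ?_)
  · exact ⟨w, by rw [← bc_eq_lTensor]; exact hw⟩
  · obtain ⟨a, s, rfl⟩ := IsLocalization.exists_mk'_eq 𝔮.primeCompl v
    refine ⟨s, s.2, a, ?_⟩
    simp only [AlgHom.toLinearMap_apply, IsScalarTower.coe_toAlgHom']
    rw [IsScalarTower.algebraMap_apply C (Localization.AtPrime 𝔮) L,
      IsScalarTower.algebraMap_apply C (Localization.AtPrime 𝔮) L a, ← map_mul,
      IsLocalization.mk'_spec']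

set_option maxHeartbeats 800000 in
/-- **Theorem X**: for a Noetherian normal domain `C` over `A` with fraction field `L`, and
`A → A'` flat with reduced fibres (over all fields), `A' ⊗ C` is integrally closed in `A' ⊗ L`. -/
theorem mem_range_bc_of_isIntegralElem [IsNoetherianRing C] [IsIntegrallyClosed C]
    (hred : ∀ (κ : Type u) [Field κ] [Algebra A κ], IsReduced (A' ⊗[A] κ))
    (x : A' ⊗[A] L) (hx : (bc A A' C L).toRingHom.IsIntegralElem x) :
    x ∈ Set.range (bc A A' C L) := by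
  classical
  obtain ⟨c, hc, z, hz⟩ := exists_mul_eq_bc A A' C L x
  let Q := {𝔮 : Ideal C // 𝔮 ∈ associatedPrimes C (C ⧸ Ideal.span {c})}
  haveI : Finite Q := (associatedPrimes.finite C (C ⧸ Ideal.span {c})).to_subtype
  let N : Submodule A L := LinearMap.range (IsScalarTower.toAlgHom A C L).toLinearMap
  let Nj : Option Q → Submodule A L := fun j =>
    match j with
    | none => locSub A C L (Submonoid.powers c)
    | some 𝔮 => locSub A C L 𝔮.1.primeCompl
  have hle : ∀ j, N ≤ Nj j := by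
    intro j
    cases j with
    | none => exact range_le_locSub A C L _
    | some 𝔮 => exact range_le_locSub A C L _
  have hinter : ∀ l, (∀ j, l ∈ Nj j) → l ∈ N := by
    intro l hl
    have h1 : ∃ (n : ℕ) (a : C), algebraMap C L c ^ n * l = algebraMap C L a := by
      obtain ⟨s, ⟨n, rfl⟩, a, ha⟩ := hl none
      exact ⟨n, a, by rw [← map_pow]; exact ha⟩
    have h2 : ∀ (𝔮 : Ideal C), 𝔮 ∈ associatedPrimes C (C ⧸ Ideal.span {c}) →
        ∃ s : C, s ∉ 𝔮 ∧ ∃ a : C, algebraMap C L s * l = algebraMap C L a := by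
      intro 𝔮 h𝔮
      obtain ⟨s, hs, a, ha⟩ := hl (some ⟨𝔮, h𝔮⟩)
      exact ⟨s, hs, a, ha⟩
    obtain ⟨a, ha⟩ := mem_range_of_forall_ass C L c hc l h1 h2
    exact ⟨a, by rw [ha]; rfl⟩
  have hxj : ∀ j, x ∈ LinearMap.range (LinearMap.lTensor A' (Nj j).subtype) := by
    intro j
    cases j with
    | none => exact mem_range_lTensor_locSub_powers A A' C L c hc x z hz
    | some 𝔮 =>
      haveI : 𝔮.1.IsPrime := 𝔮.2.isPrime
      exact mem_range_lTensor_locSub_primeCompl A A' C L hred c hc 𝔮.1 𝔮.2 x hx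
  obtain ⟨w, hw⟩ := mem_range_lTensor_of_forall A' L N Nj hle hinter x hxj
  -- `w : A' ⊗ N`, lift along the surjection `C → N`
  have hsurj : Function.Surjective
      (LinearMap.lTensor A' (IsScalarTower.toAlgHom A C L).toLinearMap.rangeRestrict) :=
    LinearMap.lTensor_surjective A' (LinearMap.surjective_rangeRestrict _)
  obtain ⟨v, rfl⟩ := hsurj w
  refine ⟨v, ?_⟩
  rw [bc_eq_lTensor, ← hw, ← LinearMap.comp_apply, ← LinearMap.lTensor_comp]
  rfl

end thmX

end Groth.Agent.H8.NBC
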