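import Mathlib
import Groth.Agent.Lib.Helper8.NBC.NBC5

namespace Groth.Agent.H8.NBC

open TensorProduct

universe u

/-- flat base change commutes with preimages of submodules -/
theorem mem_range_lTensor_comap {A : Type*} [CommRing A] (M : Type*) [AddCommGroup M] [Module A M]
    [Module.Flat A M] {K L : Type*} [AddCommGroup K] [Module A K] [AddCommGroup L] [Module A L]
    (θ : K →ₗ[A] L) (N : Submodule A L) (x : M ⊗[A] K)
    (hx : LinearMap.lTensor M θ x ∈ LinearMap.range (LinearMap.lTensor M N.subtype)) :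
    x ∈ LinearMap.range (LinearMap.lTensor M (N.comap θ).subtype) := by
  have hex : Function.Exact (N.comap θ).subtype (N.mkQ ∘ₗ θ) := by
    intro k
    simp only [LinearMap.comp_apply, Submodule.mkQ_apply, Submodule.Quotient.mk_eq_zero]
    constructor
    · intro hk
      exact ⟨⟨k, hk⟩, rfl⟩
    · rintro ⟨⟨k', hk'⟩, rfl⟩
      exact hk'
  have hex' := Module.Flat.lTensor_exact M hex
  refine (hex' x).mp ?_
  obtain ⟨w, hw⟩ := hx
  rw [LinearMap.lTensor_comp, LinearMap.comp_apply, ← hw, ← LinearMap.comp_apply,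
    ← LinearMap.lTensor_comp]
  have : N.mkQ ∘ₗ N.subtype = 0 := by
    ext n
    simp
  rw [this, LinearMap.lTensor_zero, LinearMap.zero_apply]

section Z

variable (A A' : Type u) [CommRing A] [CommRing A'] [Algebra A A'] [Module.Flat A A']

theorem map_id_eq_lTensor (K L : Type u) [CommRing K] [CommRing L] [Algebra A K] [Algebra A L]
    (θ : K →ₐ[A] L) (y : A' ⊗[A] K) :
    Algebra.TensorProduct.map (AlgHom.id A' A') θ y = LinearMap.lTensor A' θ.toLinearMap y := by
  induction y using TensorProduct.induction_on with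
  | zero => simp
  | tmul a w => simp
  | add y z hy hz => rw [map_add, map_add, hy, hz]

set_option maxHeartbeats 1000000 in
/-- **Theorem Z (abstract form)**: if `Dt ⊆ K` is cut out by finitely many conditions
`θ j x ∈ C j` with `C j` Noetherian normal domains with fraction fields `L j`, then `A' ⊗ Dt` is
integrally closed in `A' ⊗ K`. -/
theorem mem_range_bc_of_family
    (hred : ∀ (κ : Type u) [Field κ] [Algebra A κ], IsReduced (A' ⊗[A] κ))
    (Dt K : Type u) [CommRing Dt] [CommRing K] [Algebra A Dt] [Algebra A K] [Algebra Dt K]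
    [IsScalarTower A Dt K]
    {ι : Type*} [Finite ι] (C L : ι → Type u) [∀ j, CommRing (C j)] [∀ j, IsDomain (C j)]
    [∀ j, Field (L j)] [∀ j, Algebra (C j) (L j)] [∀ j, IsFractionRing (C j) (L j)]
    [∀ j, Algebra A (C j)] [∀ j, Algebra A (L j)] [∀ j, IsScalarTower A (C j) (L j)]
    [∀ j, IsNoetherianRing (C j)] [∀ j, IsIntegrallyClosed (C j)]
    (θ : ∀ j, K →ₐ[A] L j) (ρ : ∀ j, Dt →ₐ[A] C j)
    (hρ : ∀ j d, algebraMap (C j) (L j) (ρ j d) = θ j (algebraMap Dt K d))
    (hmem : ∀ x : K, (∀ j, θ j x ∈ Set.range (algebraMap (C j) (L j))) →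
      x ∈ Set.range (algebraMap Dt K))
    (x : A' ⊗[A] K) (hx : (bc A A' Dt K).toRingHom.IsIntegralElem x) :
    x ∈ Set.range (bc A A' Dt K) := by
  let N : Submodule A K := LinearMap.range (IsScalarTower.toAlgHom A Dt K).toLinearMap
  let Cr : ∀ j, Submodule A (L j) := fun j =>
    LinearMap.range (IsScalarTower.toAlgHom A (C j) (L j)).toLinearMap
  let Nj : ι → Submodule A K := fun j => (Cr j).comap (θ j).toLinearMap
  have hle : ∀ j, N ≤ Nj j := by
    rintro j _ ⟨d, rfl⟩
    exact ⟨ρ j d, (hρ j d)⟩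
  have hinter : ∀ l, (∀ j, l ∈ Nj j) → l ∈ N := by
    intro l hl
    obtain ⟨d, hd⟩ := hmem l (fun j => by
      obtain ⟨c, hc⟩ := hl j
      exact ⟨c, hc⟩)
    exact ⟨d, hd⟩
  have hxj : ∀ j, x ∈ LinearMap.range (LinearMap.lTensor A' (Nj j).subtype) := by
    intro j
    apply mem_range_lTensor_comap
    rw [← map_id_eq_lTensor]
    -- integrality of the image
    have hcomp : (bc A A' (C j) (L j)).toRingHom.comp
        (Algebra.TensorProduct.map (AlgHom.id A' A') (ρ j)).toRingHom =
        (Algebra.TensorProduct.map (AlgHom.id A' A') (θ j)).toRingHom.comp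
          (bc A A' Dt K).toRingHom := by
      ext z
      · simp
      · simp [hρ]
    have hy : (bc A A' (C j) (L j)).toRingHom.IsIntegralElem
        (Algebra.TensorProduct.map (AlgHom.id A' A') (θ j) x) := by
      obtain ⟨p, hpm, hp⟩ := hx
      refine ⟨p.map (Algebra.TensorProduct.map (AlgHom.id A' A') (ρ j)).toRingHom, hpm.map _, ?_⟩
      rw [Polynomial.eval₂_map, hcomp]
      have := Polynomial.hom_eval₂ p (bc A A' Dt K).toRingHom
        (Algebra.TensorProduct.map (AlgHom.id A' A') (θ j)).toRingHom x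
      rw [hp, map_zero] at this
      exact this.symm
    obtain ⟨w, hw⟩ := mem_range_bc_of_isIntegralElem A A' (C j) (L j) hred _ hy
    rw [← hw, bc_eq_lTensor]
    apply range_lTensor_le A' (Cr j) _ (fun c => ⟨c, rfl⟩)
    exact ⟨w, rfl⟩
  obtain ⟨w, hw⟩ := mem_range_lTensor_of_forall A' K N Nj hle hinter x hxj
  have hsurj : Function.Surjective
      (LinearMap.lTensor A' (IsScalarTower.toAlgHom A Dt K).toLinearMap.rangeRestrict) :=
    LinearMap.lTensor_surjective A' (LinearMap.surjective_rangeRestrict _)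
  obtain ⟨v, rfl⟩ := hsurj w
  refine ⟨v, ?_⟩
  rw [bc_eq_lTensor, ← hw, ← LinearMap.comp_apply, ← LinearMap.lTensor_comp]
  rfl

end Z

end Groth.Agent.H8.NBC
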