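import Mathlib
import Groth.Agent.Lib.Helper8.Japanese.AU1

namespace Groth.Agent.H8.NBC

open Polynomial

universe u

section Y1

variable {T : Type*} [CommRing T]

/-- scaleRoots commutes with finite products of monic polynomials -/
theorem prod_scaleRoots_of_monic [Nontrivial T] {ι : Type*} (s : Finset ι) (P : ι → T[X])
    (hP : ∀ i ∈ s, (P i).Monic) (c : T) :
    (∏ i ∈ s, P i).scaleRoots c = ∏ i ∈ s, (P i).scaleRoots c := by
  classical
  induction s using Finset.induction_on with
  | empty => simp
  | insert i s hi ih =>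
    rw [Finset.prod_insert hi, Finset.prod_insert hi, mul_scaleRoots', ih]
    · intro j hj
      exact hP j (Finset.mem_insert_of_mem hj)
    · have h1 : (P i).Monic := hP i (Finset.mem_insert_self i s)
      have h2 : (∏ j ∈ s, P j).Monic :=
        monic_prod_of_monic s P (fun j hj => hP j (Finset.mem_insert_of_mem hj))
      rw [h1.leadingCoeff, h2.leadingCoeff, one_mul]
      exact one_ne_zero

/-- If for every minimal prime `q` there is a monic homogeneous relation for `(a, c)` modulo `q`,
then there is such a relation in `T`. -/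
theorem exists_monic_scaleRoots_eval_eq_zero [Nontrivial T] (hfin : (minimalPrimes T).Finite)
    (a c : T)
    (h : ∀ q ∈ minimalPrimes T, ∃ P : T[X], P.Monic ∧ (P.scaleRoots c).eval a ∈ q) :
    ∃ G : T[X], G.Monic ∧ (G.scaleRoots c).eval a = 0 := by
  classical
  choose! P hPm hPq using h
  let s := hfin.toFinset
  have hs : ∀ q, q ∈ s ↔ q ∈ minimalPrimes T := fun q => hfin.mem_toFinset
  let Q : T[X] := ∏ q ∈ s, P q
  have hQm : Q.Monic := monic_prod_of_monic s P (fun q hq => hPm q ((hs q).mp hq))
  have hQs : Q.scaleRoots c = ∏ q ∈ s, (P q).scaleRoots c :=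
    prod_scaleRoots_of_monic s P (fun q hq => hPm q ((hs q).mp hq)) c
  have hnil : (Q.scaleRoots c).eval a ∈ nilradical T := by
    rw [nilradical, ← Ideal.sInf_minimalPrimes, Ideal.mem_sInf]
    intro q hq
    have hq' : q ∈ minimalPrimes T := hq
    rw [hQs, eval_prod]
    have hqs : q ∈ s := (hs q).mpr hq'
    rw [← Finset.mul_prod_erase s _ hqs]
    exact Ideal.mul_mem_right _ _ (hPq q hq')
  obtain ⟨N, hN⟩ := hnil
  refine ⟨Q ^ N, hQm.pow N, ?_⟩
  rw [pow_scaleRoots', eval_pow, hN]
  rw [hQm.leadingCoeff, one_pow]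
  exact one_ne_zero

end Y1

section Y2

variable (D : Type u) [CommRing D] (T : Type u) [CommRing T] [Algebra D T]
  [Module.FaithfullyFlat D T]

/-- Descent of a monic homogeneous relation along a faithfully flat map. -/
theorem exists_relation_of_faithfullyFlat (a c : D) (G : T[X]) (hG : G.Monic)
    (h : (G.scaleRoots (algebraMap D T c)).eval (algebraMap D T a) = 0) :
    ∃ d : Fin G.natDegree → D,
      a ^ G.natDegree = ∑ i : Fin G.natDegree, d i * (c ^ (G.natDegree - i) * a ^ (i : ℕ)) := by
  let J : Ideal D := Ideal.span (Set.range fun i : Fin G.natDegree =>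
    c ^ (G.natDegree - i) * a ^ (i : ℕ))
  have h1 : algebraMap D T (a ^ G.natDegree) ∈ J.map (algebraMap D T) := by
    rw [eval_eq_sum_range, natDegree_scaleRoots, Finset.sum_range_succ, coeff_scaleRoots,
      hG.coeff_natDegree, one_mul, tsub_self, pow_zero, one_mul] at h
    have h2 : algebraMap D T (a ^ G.natDegree) =
        -∑ i ∈ Finset.range G.natDegree, (G.scaleRoots (algebraMap D T c)).coeff i *
          algebraMap D T a ^ i := by
      rw [map_pow]
      exact eq_neg_of_add_eq_zero_right h
    rw [h2]
    refine Ideal.neg_mem_iff _ |>.mpr (Ideal.sum_mem _ fun i hi => ?_)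
    have hi' : i < G.natDegree := Finset.mem_range.mp hi
    rw [coeff_scaleRoots, mul_assoc]
    refine Ideal.mul_mem_left _ _ ?_
    rw [← map_pow, ← map_pow, ← map_mul]
    exact Ideal.mem_map_of_mem _ (Ideal.subset_span ⟨⟨i, hi'⟩, rfl⟩)
  have h3 : a ^ G.natDegree ∈ J := by
    have := Ideal.comap_map_eq_self_of_faithfullyFlat (B := T) J
    rw [← this]
    exact h1
  obtain ⟨d, hd⟩ := (Ideal.mem_span_range_iff_exists_fun).mp h3
  exact ⟨d, hd.symm⟩

/-- A relation `a^M = Σ dᵢ c^(M-i) a^i` makes `a / c` integral. -/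
theorem isIntegral_div_of_relation {K : Type*} [Field K] [Algebra D K] (a c : D)
    (hc : algebraMap D K c ≠ 0) (M : ℕ) (d : Fin M → D)
    (h : a ^ M = ∑ i : Fin M, d i * (c ^ (M - i) * a ^ (i : ℕ))) :
    IsIntegral D (algebraMap D K a / algebraMap D K c) := by
  haveI : Nontrivial D := ⟨⟨c, 0, fun h0 => hc (by rw [h0, map_zero])⟩⟩
  refine ⟨X ^ M - ∑ i : Fin M, C (d i) * X ^ (i : ℕ), ?_, ?_⟩
  · apply (monic_X_pow M).sub_of_left
    rw [degree_X_pow]
    exact degree_sum_fin_lt d
  · rw [eval₂_sub, eval₂_X_pow, eval₂_finsetSum, sub_eq_zero]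
    have h' := congrArg (algebraMap D K) h
    rw [map_pow, map_sum] at h'
    rw [div_pow, h', Finset.sum_div]
    refine Finset.sum_congr rfl fun i _ => ?_
    rw [eval₂_mul, eval₂_C, eval₂_X_pow, map_mul, map_mul, map_pow, map_pow, div_pow]
    have hi : (i : ℕ) ≤ M := i.2.le
    have : algebraMap D K c ^ M = algebraMap D K c ^ (M - i) * algebraMap D K c ^ (i : ℕ) := by
      rw [← pow_add, Nat.sub_add_cancel hi]
    rw [this]
    field_simp

end Y2

section Y

open Groth.Agent.H8.Jap.AU

variable (D : Type u) [CommRing D] [IsDomain D] (T : Type u) [CommRing T] [Algebra D T]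
  [Module.FaithfullyFlat D T]

/-- **Theorem Y** (Mori–Nagata-lite): an element of the fraction field of `D` is integral over `D`
as soon as its images in the fraction fields of the irreducible components of a faithfully flat
`D`-algebra `T` (with finitely many minimal primes) are integral. -/
theorem isIntegral_of_forall_theta (hfin : (minimalPrimes T).Finite) (x : FractionRing D)
    (h : ∀ q : MinP T, IsIntegral (T ⧸ q.1) (theta D T q x)) : IsIntegral D x := by
  obtain ⟨a, c, hc, rfl⟩ := IsFractionRing.div_surjective (A := D) x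
  have hc0 : c ≠ 0 := nonZeroDivisors.ne_zero hc
  have hcK : algebraMap D (FractionRing D) c ≠ 0 :=
    (map_ne_zero_iff _ (IsFractionRing.injective D (FractionRing D))).mpr hc0
  haveI : Nontrivial T :=
    (FaithfulSMul.algebraMap_injective D T).nontrivial
  obtain ⟨G, hGm, hG⟩ := exists_monic_scaleRoots_eval_eq_zero hfin (algebraMap D T a)
    (algebraMap D T c) (fun q hq => by
      let qq : MinP T := ⟨q, hq⟩
      haveI : q.IsPrime := hq.1.1
      have h1 := h qq
      haveI : Algebra.IsIntegral T (T ⧸ q) :=
        Algebra.isIntegral_of_surjective Ideal.Quotient.mk_surjective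
      have h2 : IsIntegral T (theta D T qq
          (algebraMap D (FractionRing D) a / algebraMap D (FractionRing D) c)) :=
        isIntegral_trans _ h1
      obtain ⟨P, hPm, hP⟩ := h2
      refine ⟨P, hPm, ?_⟩
      let f : T →+* FractionRing (T ⧸ q) := algebraMap T (FractionRing (T ⧸ q))
      have hfa : theta D T qq (algebraMap D (FractionRing D) a) = f (algebraMap D T a) := by
        rw [AlgHom.commutes]
        exact IsScalarTower.algebraMap_apply D T (FractionRing (T ⧸ q)) a
      have hfc : theta D T qq (algebraMap D (FractionRing D) c) = f (algebraMap D T c) := by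
        rw [AlgHom.commutes]
        exact IsScalarTower.algebraMap_apply D T (FractionRing (T ⧸ q)) c
      have hfc0 : f (algebraMap D T c) ≠ 0 := by
        rw [← hfc]
        exact (map_ne_zero_iff _ (theta D T qq).toRingHom.injective).mpr hcK
      have h3 : eval₂ f (f (algebraMap D T c) * (f (algebraMap D T a) / f (algebraMap D T c)))
          (P.scaleRoots (algebraMap D T c)) = 0 := by
        rw [scaleRoots_eval₂_mul, ← hfa, ← hfc, ← map_div₀]
        rw [show eval₂ f ((theta D T qq) (algebraMap D (FractionRing D) a /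
          algebraMap D (FractionRing D) c)) P = 0 from hP, mul_zero]
      rw [mul_div_cancel₀ _ hfc0, eval₂_at_apply] at h3
      rw [IsScalarTower.algebraMap_apply T (T ⧸ q) (FractionRing (T ⧸ q))] at h3
      have h4 := (IsFractionRing.injective (T ⧸ q) (FractionRing (T ⧸ q)))
        (h3.trans (map_zero _).symm)
      exact Ideal.Quotient.eq_zero_iff_mem.mp h4)
  obtain ⟨d, hd⟩ := exists_relation_of_faithfullyFlat D T a c G hGm hG
  exact isIntegral_div_of_relation D a c hcK G.natDegree d hd

end Y

end Groth.Agent.H8.NBC
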