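import Mathlib
import Groth.Agent.Lib.Helper8.NBC.NBC8
import Groth.Agent.Lib.Helper8.NBC.NBC9
import Groth.Agent.Lib.Helper8.Japanese.AU2

namespace Groth.Agent.H8.NBC

open TensorProduct Groth.Agent.H8.Jap.AU

universe u

section Zc

variable (A A' : Type u) [CommRing A] [CommRing A'] [Algebra A A'] [Module.Flat A A']
  (D : Type u) [CommRing D] [IsDomain D] [Algebra A D]
  (T : Type u) [CommRing T] [Algebra D T] [Module.FaithfullyFlat D T] [IsNoetherianRing T]
  [Algebra A T] [IsScalarTower A D T]

/-- the restriction of `theta` to the integral closures -/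
noncomputable def rho (q : MinP T) : integralClosure D (FractionRing D) →ₐ[A]
    integralClosure (T ⧸ q.1) (FractionRing (T ⧸ q.1)) where
  toFun d := ⟨theta D T q d.1, by
    have h1 : IsIntegral D (theta D T q d.1) := d.2.map (theta D T q)
    exact h1.tower_top⟩
  map_one' := Subtype.ext (map_one _)
  map_mul' x y := Subtype.ext (map_mul _ _ _)
  map_zero' := Subtype.ext (map_zero _)
  map_add' x y := Subtype.ext (map_add _ _ _)
  commutes' r := Subtype.ext (by
    show theta D T q (algebraMap A (FractionRing D) r) = algebraMap A (FractionRing (T ⧸ q.1)) r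
    rw [IsScalarTower.algebraMap_apply A D (FractionRing D), AlgHom.commutes,
      ← IsScalarTower.algebraMap_apply A D (FractionRing (T ⧸ q.1))])

set_option maxHeartbeats 1000000 in
/-- **Theorem Z**: `A' ⊗ D̃` is integrally closed in `A' ⊗ Frac D` when `D` admits a faithfully
flat Noetherian extension whose irreducible components are N-1. -/
theorem mem_range_bc_integralClosure
    (hred : ∀ (κ : Type u) [Field κ] [Algebra A κ], IsReduced (A' ⊗[A] κ))
    (hN1 : ∀ q : MinP T, Module.Finite (T ⧸ q.1)
      (integralClosure (T ⧸ q.1) (FractionRing (T ⧸ q.1))))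
    (x : A' ⊗[A] FractionRing D)
    (hx : (bc A A' (integralClosure D (FractionRing D)) (FractionRing D)).toRingHom.IsIntegralElem
      x) :
    x ∈ Set.range (bc A A' (integralClosure D (FractionRing D)) (FractionRing D)) := by
  haveI : Finite (MinP T) := (minimalPrimes.finite_of_isNoetherianRing T).to_subtype
  haveI : ∀ q : MinP T, IsIntegrallyClosed
      (integralClosure (T ⧸ q.1) (FractionRing (T ⧸ q.1))) := fun q =>
    integralClosure.isIntegrallyClosedOfFiniteExtension (FractionRing (T ⧸ q.1))
  haveI : ∀ q : MinP T, IsNoetherianRing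
      (integralClosure (T ⧸ q.1) (FractionRing (T ⧸ q.1))) := fun q => by
    haveI := hN1 q
    exact IsNoetherianRing.of_finite (T ⧸ q.1) _
  have hθ : ∀ q : MinP T, IsScalarTower A D (FractionRing (T ⧸ q.1)) := fun q => inferInstance
  refine mem_range_bc_of_family A A' hred (integralClosure D (FractionRing D)) (FractionRing D)
    (fun q : MinP T => integralClosure (T ⧸ q.1) (FractionRing (T ⧸ q.1)))
    (fun q : MinP T => FractionRing (T ⧸ q.1))
    (fun q => (theta D T q).restrictScalars A) (fun q => rho A D T q) ?_ ?_ x hx
  · intro q d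
    rfl
  · intro y hy
    have : IsIntegral D y := by
      refine isIntegral_of_forall_theta D T (minimalPrimes.finite_of_isNoetherianRing T) y ?_
      intro q
      obtain ⟨c, hc⟩ := hy q
      have : theta D T q y = c.1 := hc.symm
      rw [this]
      exact c.2
    exact ⟨⟨y, this⟩, rfl⟩

end Zc

section Zlocal

open IsLocalRing

variable (A A' : Type u) [CommRing A] [CommRing A'] [Algebra A A'] [Module.Flat A A']
  (D : Type u) [CommRing D] [IsDomain D] [IsLocalRing D] [IsNoetherianRing D] [Algebra A D]

/-- **Theorem Z (local form)**: for a Noetherian local domain `D` over `A`, `A' ⊗ D̃` is integrally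
closed in `A' ⊗ Frac D`. -/
theorem mem_range_bc_integralClosure_local
    (hred : ∀ (κ : Type u) [Field κ] [Algebra A κ], IsReduced (A' ⊗[A] κ))
    (x : A' ⊗[A] FractionRing D)
    (hx : (bc A A' (integralClosure D (FractionRing D)) (FractionRing D)).toRingHom.IsIntegralElem
      x) :
    x ∈ Set.range (bc A A' (integralClosure D (FractionRing D)) (FractionRing D)) := by
  have hfg : (maximalIdeal D).FG := IsNoetherian.noetherian _
  haveI : IsNoetherianRing (AdicCompletion (maximalIdeal D) D) :=
    OneDim.isNoetherianRing_adicCompletion D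
  letI := AdicCompletion.isLocalRing_of_fg (R := D) hfg
  haveI := AdicCompletion.algebraMap_isLocalHom_of_fg (R := D) hfg
  haveI : Module.FaithfullyFlat D (AdicCompletion (maximalIdeal D) D) :=
    Module.FaithfullyFlat.of_flat_of_isLocalHom
  have hNag := Jap.isNagata_adicCompletion D
  refine mem_range_bc_integralClosure A A' D (AdicCompletion (maximalIdeal D) D) hred ?_ x hx
  intro q
  exact hNag.2 q.1 (FractionRing (AdicCompletion (maximalIdeal D) D ⧸ q.1)) inferInstance

end Zlocal

end Groth.Agent.H8.NBC
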